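import Groth.Agent.S0354
import Groth.Agent.NeutralSet.Basic
import Groth.Agent.LocalDim.Closure
import Groth.Agent.EquidimFlat.Basic
import Groth.Agent.GeomUnib.FibreDimNhds

/-!
# Fibre dimensions of group schemes
-/

set_option autoImplicit false

universe u

open CategoryTheory Limits MonoidalCategory CartesianMonoidalCategory MonObj AlgebraicGeometry TopologicalSpace
open Groth.Agent.FibreDim

set_option backward.isDefEq.respectTransparency false
set_option linter.style.haveILetI false

namespace Groth.Agent.GrpFibreDim

/-- A group scheme locally of finite type over a field has the same local dimension everywhere. -/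
theorem localDim_eq_dim {K : Type u} [Field K] (H : Over (Spec (CommRingCat.of K))) [GrpObj H]
    [LocallyOfFiniteType H.hom] (g : H.left) : FlatMor.localDim H.left g = topologicalKrullDim H.left := by
  have : JacobsonSpace H.left := LocallyOfFiniteType.jacobsonSpace H.hom
  refine le_antisymm ((localDim_le isOpen_univ trivial).trans (dim_homeo (Homeomorph.Set.univ _)).le)
    (le_localDim fun O hO hgO => ?_)
  obtain ⟨c, hcO, hc⟩ := nonempty_inter_closedPoints (Z := O) ⟨g, hgO⟩ hO.isLocallyClosed
  refine le_trans (le_of_eq ?_) (localDim_le hO hcO)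
  rw [LocalDim.localDim_eq_stalk_add_closure H.hom c, hc.closure_eq, S0354.result K H c hc]
  have h0 : topologicalKrullDim ({c} : Set H.left) = 0 := by
    obtain ⟨n, hn, -⟩ := exists_fdim H.hom c
    rw [EquidimFlat.fdim_eq_closure, hc.closure_eq] at hn
    have h0 : topologicalKrullDim ({c} : Set H.left) ≤ 0 := topologicalKrullDim_zero_of_discreteTopology _
    rw [hn] at h0 ⊢
    have : n ≤ 0 := by exact_mod_cast h0
    exact_mod_cast Nat.le_zero.mp this
  rw [h0, add_zero]

/-- The fibre dimension of a group scheme at a point is the dimension of the fibre. -/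
theorem fibreDimAt_eq {S : Scheme.{u}} (G : Over S) [GrpObj G] [LocallyOfFiniteType G.hom] (x : G.left) :
    FlatMor.fibreDimAt G.hom x = topologicalKrullDim ↥(G.hom.base ⁻¹' {G.hom.base x}) := by
  haveI : LocallyOfFiniteType (Red.bc (S.fromSpecResidueField (G.hom.base x)) G).hom :=
    inferInstanceAs (LocallyOfFiniteType (pullback.snd G.hom (S.fromSpecResidueField (G.hom.base x))))
  refine (localDim_eq_dim (Red.bc (S.fromSpecResidueField (G.hom.base x)) G) (G.hom.asFiber x)).trans ?_
  exact GeomUnib.FibreDimNhds.dim_fibre_eq G.hom _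

theorem dim_fibre_eq_unit {S : Scheme.{u}} (G : Over S) [GrpObj G] [LocallyOfFiniteType G.hom] (s : S) :
    topologicalKrullDim ↥(G.hom.base ⁻¹' {s}) = FlatMor.fibreDimAt G.hom (NeutralSet.e1 G s) := by
  rw [fibreDimAt_eq]
  have : G.hom.base (NeutralSet.e1 G s) = s := by
    show G.hom (NeutralSet.e1 G s) = s
    rw [← Scheme.Hom.comp_apply, NeutralSet.e1_w]
    rfl
  rw [this]

end Groth.Agent.GrpFibreDim
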